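import Groth.Agent.CohVanish.SerreCriterion

/-!
# Affineness from exactness of global sections on short exact sequences with small kernel
-/

universe u

open CategoryTheory Limits Opposite TopologicalSpace AlgebraicGeometry Abelian

namespace Groth.Agent.AffCrit

open Groth.Agent.CohVanish

variable {X : Scheme.{u}}

/-- Global sections are surjective on epimorphisms of qcoh modules with kernel inside some `O_X^n`. -/
def GlobalExact (X : Scheme.{u}) : Prop :=
  ∀ {N M : X.Modules} (π : N ⟶ M) [Epi π], N.IsQuasicoherent → M.IsQuasicoherent →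
    ∀ (n : ℕ) (j : kernel π ⟶ ∏ᶜ (fun _ : Fin n => oMod X)), Mono j → Function.Surjective (π.app ⊤)

/-- A module with a monomorphism into some `O_X^n`. -/
def Small (N : X.Modules) : Prop := ∃ (n : ℕ) (j : N ⟶ ∏ᶜ (fun _ : Fin n => oMod X)), Mono j

lemma small_of_isZero {Z : X.Modules} (hZ : IsZero Z) : Small Z := ⟨0, 0, ⟨fun a b _ => hZ.eq_of_tgt a b⟩⟩

lemma small_biprod {N : X.Modules} (hN : Small N) : Small (oMod X ⊞ N) := by
  obtain ⟨n, j, _⟩ := hN
  refine ⟨n + 1, Pi.lift fun k => Fin.cases (biprod.fst : oMod X ⊞ N ⟶ oMod X)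
    (fun i => biprod.snd ≫ j ≫ Pi.π (fun _ : Fin n => oMod X) i) k, ⟨fun {W} a b hab => ?_⟩⟩
  apply biprod.hom_ext
  · simpa using congrArg (· ≫ Pi.π (fun _ : Fin (n + 1) => oMod X) 0) hab
  · rw [← cancel_mono j]
    refine Pi.hom_ext _ _ fun i => ?_
    simpa using congrArg (· ≫ Pi.π (fun _ : Fin (n + 1) => oMod X) i.succ) hab

/-- Global functions separate a closed point of an affine open from the complement. -/
theorem exists_basicOpen_le_of_isClosed (h : GlobalExact X) {x : X} (hx : IsClosed ({x} : Set X))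
    {U : X.Opens} (hxU : x ∈ U) : ∃ f : Γ(X, ⊤), x ∈ X.basicOpen f ∧ X.basicOpen f ≤ U := by
  let T : Closeds X := ⟨(U : Set X)ᶜ ∪ {x}, U.isOpen.isClosed_compl.union hx⟩
  let I := Scheme.IdealSheafData.vanishingIdeal T
  let i := I.subschemeι
  have hrange : Set.range i = (U : Set X)ᶜ ∪ {x} := by
    rw [Scheme.IdealSheafData.range_subschemeι, Scheme.IdealSheafData.coe_support_vanishingIdeal]
    rfl
  let A : I.subscheme.Opens := i ⁻¹ᵁ U
  let B : I.subscheme.Opens := i ⁻¹ᵁ ⟨({x} : Set X)ᶜ, hx.isOpen_compl⟩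
  have hcov : (⊤ : I.subscheme.Opens) ≤ A ⊔ B := fun y _ => by
    by_cases hy : i y = x
    · exact Or.inl (show i y ∈ U from hy ▸ hxU)
    · exact Or.inr hy
  have hdisj : A ⊓ B = ⊥ := by
    refine le_bot_iff.mp fun y hy => ?_
    have h1 : i y ∈ (U : Set X)ᶜ ∪ {x} := hrange ▸ Set.mem_range_self y
    rcases h1 with h1 | h1
    · exact absurd hy.1 h1
    · exact absurd h1 hy.2
  -- the idempotent
  obtain ⟨e, heA, heB⟩ : ∃ e : Γ(I.subscheme, ⊤),
      I.subscheme.presheaf.map (homOfLE (le_top (a := A))).op e = 1 ∧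
      I.subscheme.presheaf.map (homOfLE (le_top (a := B))).op e = 0 := by
    let V : Bool → I.subscheme.Opens := fun b => cond b A B
    let sf : ∀ b, Γ(I.subscheme, V b) := fun b => match b with
      | true => 1
      | false => 0
    have hsub : ∀ (W : I.subscheme.Opens), W ≤ ⊥ → Subsingleton Γ(I.subscheme, W) := fun W hW => by
      rw [le_bot_iff.mp hW]
      exact CommRingCat.subsingleton_of_isTerminal
        (TopCat.Sheaf.isTerminalOfEmpty I.subscheme.sheaf)
    obtain ⟨e, he, -⟩ := TopCat.Sheaf.existsUnique_gluing' I.subscheme.sheaf V ⊤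
      (fun b => homOfLE le_top) (hcov.trans (sup_le (le_iSup V true) (le_iSup V false))) sf
      (fun b c => by
        cases b <;> cases c
        · rfl
        · exact @Subsingleton.elim _ (hsub _ ((inf_comm B A).le.trans hdisj.le)) _ _
        · exact @Subsingleton.elim _ (hsub _ hdisj.le) _ _
        · rfl)
    exact ⟨e, he true, he false⟩
  -- lift it
  let π := unitToPush i
  have := isQuasicoherent_oMod X
  have := isQuasicoherent_oMod I.subscheme
  have : ((Scheme.Modules.pushforward i).obj (oMod I.subscheme)).IsQuasicoherent :=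
    QCohLib.isQuasicoherent_pushforward i
  have : Epi π := QCohLib.epi_of_affine_surjective π fun V t => by
    obtain ⟨a, ha⟩ := Scheme.Hom.app_surjective i V.1 V.2 t
    exact ⟨a, ha⟩
  obtain ⟨f, hf⟩ : ∃ f : Γ(X, ⊤), i.app ⊤ f = e :=
    h π ‹_› ‹_› 1 (Pi.lift fun _ => kernel.ι π)
      ⟨fun a b hab => (cancel_mono (kernel.ι π)).1 (by
        simpa using congrArg (· ≫ Pi.π (fun _ : Fin 1 => oMod X) 0) hab)⟩ e
  refine ⟨f, ?_, ?_⟩
  · have hy : x ∈ Set.range i := hrange ▸ Or.inr rfl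
    obtain ⟨y, hy⟩ := hy
    have hyA : y ∈ A := show i y ∈ U from hy ▸ hxU
    have : y ∈ I.subscheme.basicOpen e := by
      have h2 := I.subscheme.basicOpen_res e (homOfLE (le_top (a := A))).op
      rw [heA, Scheme.basicOpen_of_isUnit _ isUnit_one] at h2
      exact (h2.le hyA).2
    rw [← hy]
    have h3 : I.subscheme.basicOpen e = i ⁻¹ᵁ X.basicOpen f := by
      rw [Scheme.preimage_basicOpen]
      exact congrArg I.subscheme.basicOpen hf.symm
    exact h3.le this
  · intro z hz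
    by_contra hzU
    obtain ⟨y, hy⟩ : z ∈ Set.range i := hrange ▸ Or.inl hzU
    have hyB : y ∈ B := by
      intro hyx
      exact hzU (hy ▸ hyx ▸ hxU)
    have h2 := I.subscheme.basicOpen_res e (homOfLE (le_top (a := B))).op
    rw [heB, Scheme.basicOpen_zero] at h2
    have h3 : y ∈ I.subscheme.basicOpen e := by
      have : y ∈ i ⁻¹ᵁ X.basicOpen f := show i y ∈ X.basicOpen f from hy ▸ hz
      rw [Scheme.preimage_basicOpen] at this
      exact (congrArg I.subscheme.basicOpen hf).le this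
    exact (h2.ge ⟨hyB, h3⟩ : y ∈ (⊥ : I.subscheme.Opens))

/-- Functions whose basic opens cover generate the unit ideal. -/
theorem span_eq_top_of_iSup_basicOpen (h : GlobalExact X) (n : ℕ) (f : Fin n → Γ(X, ⊤))
    (hf : ⨆ i, X.basicOpen (f i) = ⊤) : Ideal.span (Set.range f) = ⊤ := by
  have := isQuasicoherent_oMod X
  obtain ⟨F, σ, ⟨hFq, hF⟩, hσ⟩ := exists_free_hom
    (fun N : X.Modules => N.IsQuasicoherent ∧ Small N)
    (fun Z hZ => ⟨isQuasicoherent_of_isZero hZ, small_of_isZero hZ⟩)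
    (fun N ⟨hq, hN⟩ => ⟨isQuasicoherent_biprod _ _, small_biprod hN⟩) (oMod X) n f
  have : Epi σ := by
    rw [QCohLib.epi_iff_locally_surjective]
    intro V t x hx
    obtain ⟨i, hi⟩ := Opens.mem_iSup.mp (hf.ge (Opens.mem_top x))
    let W := V ⊓ X.basicOpen (f i)
    refine ⟨W, inf_le_left, ?_, hx, hi⟩
    have hu : IsUnit (X.presheaf.map (homOfLE (le_top (a := W))).op (f i)) := by
      have := (RingedSpace.isUnit_res_basicOpen X.toRingedSpace (f i)).map
        (X.presheaf.map (homOfLE (inf_le_right : W ≤ X.basicOpen (f i))).op).hom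
      convert! this using 1
      exact congr($(X.presheaf.map_comp (homOfLE (X.basicOpen_le (f i))).op
        (homOfLE (inf_le_right : W ≤ X.basicOpen (f i))).op) (f i))
    obtain ⟨s, hs⟩ := (hσ W).ge (Submodule.smul_mem _
      (((X.presheaf.map (homOfLE (inf_le_left : W ≤ V)).op t) * ↑hu.unit⁻¹ : Γ(X, W)))
      (Submodule.subset_span ⟨i, rfl⟩))
    refine ⟨s, hs.trans ?_⟩
    change X.presheaf.map (homOfLE (inf_le_left : W ≤ V)).op t * ↑hu.unit⁻¹ *
      X.presheaf.map (homOfLE (le_top (a := W))).op (f i) = _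
    rw [mul_assoc, IsUnit.val_inv_mul, mul_one]
    rfl
  obtain ⟨m, j, _⟩ := hF
  obtain ⟨s, hs⟩ := h σ hFq ‹_› m (kernel.ι σ ≫ j) inferInstance (1 : Γ(X, ⊤))
  have h1 := (hσ ⊤).le ⟨s, hs⟩
  rw [Ideal.eq_top_iff_one]
  refine Submodule.span_mono ?_ h1
  rintro _ ⟨i, rfl⟩
  refine ⟨i, ?_⟩
  exact (congr($(X.presheaf.map_id (op ⊤)) (f i))).symm

/-- **Serre's criterion**. -/
theorem isAffine_of_globalExact [CompactSpace X] (h : GlobalExact X) : IsAffine X := by
  classical
  have key : ∀ x : X, ∃ f : Γ(X, ⊤), x ∈ X.basicOpen f ∧ IsAffineOpen (X.basicOpen f) := by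
    let G : X.Opens := ⨆ f : {f : Γ(X, ⊤) // IsAffineOpen (X.basicOpen f)}, X.basicOpen f.1
    suffices hG : ∀ x, x ∈ G by
      intro x
      obtain ⟨f, hf⟩ := Opens.mem_iSup.mp (hG x)
      exact ⟨f.1, hf, f.2⟩
    intro x
    by_contra hxG
    obtain ⟨y, hyG, hy⟩ := IsClosed.exists_closed_singleton G.isOpen.isClosed_compl ⟨x, hxG⟩
    obtain ⟨U, hU, hyU, -⟩ := exists_isAffineOpen_mem_and_subset (Opens.mem_top y)
    obtain ⟨f, hyf, hfU⟩ := exists_basicOpen_le_of_isClosed h hy hyU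
    have : IsAffineOpen (X.basicOpen f) := by
      have h2 := hU.basicOpen (X.presheaf.map (homOfLE (le_top (a := U))).op f)
      rwa [X.basicOpen_res, inf_eq_right.mpr hfU] at h2
    exact hyG (Opens.mem_iSup.mpr ⟨⟨f, this⟩, hyf⟩)
  choose f hxf hf using key
  obtain ⟨t, ht⟩ := CompactSpace.elim_nhds_subcover (fun x => (X.basicOpen (f x) : Set X))
    fun x => (X.basicOpen (f x)).isOpen.mem_nhds (hxf x)
  refine isAffine_of_isAffineOpen_basicOpen (Set.range fun i : Fin t.card => f (t.equivFin.symm i).1)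
    (span_eq_top_of_iSup_basicOpen h _ _ (top_le_iff.mp fun x _ => ?_)) ?_
  · obtain ⟨a, ha, hxa⟩ : ∃ a ∈ t, x ∈ X.basicOpen (f a) := by
      simpa using ht.ge (Set.mem_univ x)
    exact Opens.mem_iSup.mpr ⟨t.equivFin ⟨a, ha⟩, by rw [Equiv.symm_apply_apply]; exact hxa⟩
  · rintro _ ⟨i, rfl⟩
    exact hf _

end Groth.Agent.AffCrit
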