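import Groth.Agent.CohVanish.Sections
import Groth.Agent.QCohLib.StalkLoc
import Groth.Prelude.Def_CohB1

/-!
# Coherent modules supported in dimension zero are flasque
-/

set_option autoImplicit false

universe u

open CategoryTheory Limits Opposite TopologicalSpace AlgebraicGeometry

namespace Groth.Agent.AffCrit

open Groth.Agent.CohVanish

theorem isClosed_subset_of_points {α : Type*} [TopologicalSpace α] [NoetherianSpace α] [QuasiSober α]
    {S T : Set α} (hS : IsClosed S) (h0 : ∀ x ∈ S, IsClosed ({x} : Set α)) (hT : T ⊆ S) : IsClosed T := by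
  obtain ⟨𝒮, hfin, hcl, hirr, hcov⟩ := NoetherianSpace.exists_finite_set_isClosed_irreducible hS
  have hsub : ∀ t ∈ 𝒮, t.Subsingleton := fun t ht => by
    have hg := (hirr t ht).isGenericPoint_genericPoint (hcl t ht)
    have hmem : (hirr t ht).genericPoint ∈ t := hg.mem
    have hxc := h0 _ (hcov.ge (Set.mem_sUnion.2 ⟨t, ht, hmem⟩))
    rw [← hg.def, hxc.closure_eq]
    exact Set.subsingleton_singleton
  have hSfin : S.Finite := hcov ▸ hfin.sUnion fun t ht => (hsub t ht).finite
  rw [← Set.biUnion_of_singleton T]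
  exact (hSfin.subset hT).isClosed_biUnion fun x hx => h0 x (hT hx)

variable {X : Scheme.{u}} [IsLocallyNoetherian X]

theorem isClosed_subset_support {M : X.Modules} (hM : M.IsFiniteType)
    (h0 : ∀ x ∈ CohB1.support M, IsClosed ({x} : Set X)) {T : Set X} (hT : T ⊆ CohB1.support M) :
    IsClosed T := by
  rw [← isOpen_compl_iff, isOpen_iff_forall_mem_open]
  intro x hx
  obtain ⟨U, hU, hxU, -⟩ := exists_isAffineOpen_mem_and_subset (X := X) (U := ⊤) (x := x) trivial
  haveI : IsNoetherianRing Γ(X, U) := IsLocallyNoetherian.component_noetherian ⟨U, hU⟩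
  haveI : NoetherianSpace U := noetherianSpace_of_isAffineOpen U hU
  haveI : QuasiSober U := U.2.isOpenEmbedding_subtypeVal.quasiSober
  have hc : IsClosed (Subtype.val ⁻¹' T : Set U) :=
    isClosed_subset_of_points ((QCohLib.isClosed_support hM).preimage continuous_subtype_val)
      (fun y hy => by
        have := (h0 y.1 hy).preimage (continuous_subtype_val (p := fun z => z ∈ U))
        have he : ({y} : Set U) = Subtype.val ⁻¹' {y.1} := Set.ext fun z => Subtype.ext_iff
        rw [he]
        exact this)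
      (Set.preimage_mono hT)
  refine ⟨Subtype.val '' (Subtype.val ⁻¹' T : Set U)ᶜ, ?_, U.2.isOpenMap_subtype_val _ hc.isOpen_compl,
    ⟨⟨x, hxU⟩, hx, rfl⟩⟩
  rintro _ ⟨y, hy, rfl⟩
  exact hy

theorem isFlasque_of_support {M : X.Modules} (hM : M.IsFiniteType)
    (h0 : ∀ x ∈ CohB1.support M, IsClosed ({x} : Set X)) :
    TopCat.Sheaf.IsFlasque (X := sp X) (Coh.toAb M) where
  epi {U V} i := by
    rw [AddCommGrpCat.epi_iff_surjective]
    intro s
    have hle : V.unop ≤ U.unop := i.unop.le
    let T : Set X := CohB1.support M ∩ (V.unop : Set X)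
    have hT : IsClosed T := isClosed_subset_support hM h0 Set.inter_subset_left
    let W : X.Opens := U.unop ⊓ ⟨Tᶜ, hT.isOpen_compl⟩
    let Vf : Bool → X.Opens := fun b => cond b V.unop W
    let sf : ∀ b, Γ(M, Vf b) := fun b => match b with
      | true => s
      | false => 0
    have hz : ∀ (O : X.Opens) (a : Γ(M, O)), O ≤ V.unop → O ≤ W → a = 0 := fun O a h1 h2 => by
      refine TopCat.Presheaf.section_ext (⟨M.presheaf, M.isSheaf⟩ : TopCat.Sheaf AddCommGrpCat X) O a 0
        fun x hx => ?_
      haveI : Subsingleton (M.presheaf.stalk x) := not_not.1 fun hx' => (h2 hx).2 ⟨hx', h1 hx⟩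
      exact Subsingleton.elim _ _
    have hcov : U.unop ≤ ⨆ b, Vf b := fun x hx => by
      by_cases hxV : x ∈ V.unop
      · exact Opens.mem_iSup.2 ⟨true, hxV⟩
      · exact Opens.mem_iSup.2 ⟨false, hx, fun h => hxV h.2⟩
    obtain ⟨t, ht, -⟩ := TopCat.Sheaf.existsUnique_gluing'
      (⟨M.presheaf, M.isSheaf⟩ : TopCat.Sheaf AddCommGrpCat X) Vf U.unop
      (fun b => homOfLE (match b with | true => hle | false => inf_le_left)) hcov sf
      (fun b c => by
        cases b <;> cases c
        · rfl
        · exact (hz _ _ inf_le_right inf_le_left).trans (hz _ _ inf_le_right inf_le_left).symm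
        · exact (hz _ _ inf_le_left inf_le_right).trans (hz _ _ inf_le_left inf_le_right).symm
        · rfl)
    exact ⟨t, ht true⟩

theorem subsingleton_HH_of_support {M : X.Modules} (hM : M.IsFiniteType)
    (h0 : ∀ x ∈ CohB1.support M, IsClosed ({x} : Set X)) (n : ℕ) : Subsingleton (Coh.HH X M (n + 1)) := by
  haveI := isFlasque_of_support hM h0
  haveI := subsingleton_of_flasque (X := sp X) (Coh.toAb M) ⊤ n
  exact (hEquiv (X := sp X) (Coh.toAb M) (n + 1)).injective.subsingleton

end Groth.Agent.AffCrit
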