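import Groth.Agent.CohVanish.SerreCriterion
import Groth.Agent.SubSheafExt.Generators
import Groth.Prelude.Def_CohB1

/-!
# Serre's criterion with ideals of finite type
-/

set_option autoImplicit false

universe u

open CategoryTheory Limits Opposite TopologicalSpace AlgebraicGeometry Abelian

namespace Groth.Agent.AffCrit

open Groth.Agent.CohVanish

section

variable {X : TopCat.{u}}

/-- `H¹` vanishes if finitely many sections of `F` always come from an acyclic subsheaf. -/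
theorem subsingleton_EU_one_of_exhausted [CompactSpace X] (P : Opens X → Prop)
    (hbasis : ∀ (U : Opens X) (x : X), x ∈ U → ∃ W, P W ∧ x ∈ W ∧ W ≤ U)
    (hinter : ∀ U V, P U → P V → IsCompact ((U ⊓ V : Opens X) : Set X))
    (F : AbSh X)
    (hgen : ∀ (κ : Type u) [Fintype κ] (W : κ → Opens X), (∀ k, P (W k)) →
      ∀ c : ∀ k, F.obj.obj (op (W k)), ∃ (G : AbSh X) (φ : G ⟶ F), Mono φ ∧ Subsingleton (EU G ⊤ 1) ∧
        ∀ k, c k ∈ Set.range (φ.hom.app (op (W k)))) :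
    Subsingleton (EU F ⊤ 1) := by
  classical
  let S := injSES F
  have hS : S.ShortExact := injSES_shortExact F
  refine subsingleton_of_forall_eq 0 fun a => ?_
  obtain ⟨q, rfl⟩ := eDelta_surjective hS ⊤ 0 a
  refine (eDelta_zero_eq_zero hS ⊤ q).2 ?_
  generalize eu0 ⊤ S.X₃ q = t
  have hl : ∀ x : X, ∃ (W : Opens X), P W ∧ x ∈ W ∧
      ∃ s, S.g.hom.app (op W) s = S.X₃.obj.map (homOfLE (le_top (a := W))).op t := fun x => by
    obtain ⟨W, hW, hxW, s, hs⟩ := exists_lift_near hS ⊤ t x trivial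
    obtain ⟨W', hP, hxW', hle⟩ := hbasis W x hxW
    refine ⟨W', hP, hxW', S.X₂.obj.map (homOfLE hle).op s, ?_⟩
    rw [NatTrans.naturality_apply S.g.hom, hs, ← ConcreteCategory.comp_apply, ← Functor.map_comp]
    rfl
  choose W0 hP0 hx0 s0 hs0 using hl
  obtain ⟨A, hA⟩ := CompactSpace.elim_nhds_subcover (fun x => (W0 x : Set X))
    fun x => (W0 x).isOpen.mem_nhds (hx0 x)
  have hcomp : ∀ p : A × A, ∃ B : Finset (Opens X),
      (∀ W ∈ B, P W ∧ W ≤ W0 p.1 ⊓ W0 p.2) ∧ ∀ x ∈ W0 (p.1 : X) ⊓ W0 p.2, ∃ W ∈ B, x ∈ W := by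
    intro p
    choose Wp hPp hxp hlep using fun x : (W0 (p.1 : X) ⊓ W0 p.2 : Opens X) =>
      hbasis (W0 p.1 ⊓ W0 p.2) x.1 x.2
    obtain ⟨B, hB⟩ := (hinter _ _ (hP0 p.1) (hP0 p.2)).elim_finite_subcover
      (fun x => (Wp x : Set X)) (fun x => (Wp x).isOpen)
      (fun x hx => Set.mem_iUnion.2 ⟨⟨x, hx⟩, hxp ⟨x, hx⟩⟩)
    refine ⟨B.image Wp, fun W hW => ?_, fun x hx => ?_⟩
    · obtain ⟨y, -, rfl⟩ := Finset.mem_image.1 hW
      exact ⟨hPp y, hlep y⟩
    · obtain ⟨y, hy, hxy⟩ := Set.mem_iUnion₂.1 (hB hx)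
      exact ⟨Wp y, Finset.mem_image.2 ⟨y, hy, rfl⟩, hxy⟩
  choose B hB hBcov using hcomp
  let κ := Σ p : A × A, {W // W ∈ B p}
  have hdiff : ∀ k : κ, ∃ c : F.obj.obj (op k.2.1), S.f.hom.app (op k.2.1) c =
      S.X₂.obj.map (homOfLE ((hB k.1 k.2.1 k.2.2).2.trans inf_le_left)).op (s0 k.1.1) -
        S.X₂.obj.map (homOfLE ((hB k.1 k.2.1 k.2.2).2.trans inf_le_right)).op (s0 k.1.2) := by
    intro k
    have h0 : S.g.hom.app (op k.2.1)
      (S.X₂.obj.map (homOfLE ((hB k.1 k.2.1 k.2.2).2.trans inf_le_left)).op (s0 k.1.1) -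
        S.X₂.obj.map (homOfLE ((hB k.1 k.2.1 k.2.2).2.trans inf_le_right)).op (s0 k.1.2)) = 0 := by
      rw [map_sub, NatTrans.naturality_apply S.g.hom, NatTrans.naturality_apply S.g.hom, hs0, hs0,
        ← ConcreteCategory.comp_apply, ← ConcreteCategory.comp_apply, ← Functor.map_comp, ← Functor.map_comp]
      exact sub_self _
    obtain ⟨y, hy⟩ := (eMap_g_eq_zero_iff hS k.2.1 0 ((eu0 _ S.X₂).symm _)).1
      ((eu0 _ S.X₃).injective (by rw [eu0_eMap, AddEquiv.apply_symm_apply, h0, map_zero]))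
    refine ⟨eu0 _ S.X₁ y, ?_⟩
    rw [← eu0_eMap, hy, AddEquiv.apply_symm_apply]
  choose c hc using hdiff
  obtain ⟨G, φ, hφ, hG, hcG⟩ : ∃ (G : AbSh X) (φ : G ⟶ S.X₁), Mono φ ∧ Subsingleton (EU G ⊤ 1) ∧
      ∀ k : κ, c k ∈ Set.range (φ.hom.app (op k.2.1)) :=
    hgen κ (fun k => k.2.1) (fun k => (hB k.1 k.2.1 k.2.2).1) c
  haveI := hφ
  haveI : Mono S.f := hS.mono_f
  haveI : Subsingleton (EU G ⊤ 1) := hG
  let T : ShortComplex (AbSh X) := ShortComplex.mk (φ ≫ S.f) (cokernel.π _) (cokernel.condition _)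
  have hT : T.ShortExact :=
    { exact := ShortComplex.exact_of_g_is_cokernel _ (cokernelIsCokernel _)
      mono_f := mono_comp φ S.f
      epi_g := coequalizer.π_epi }
  let r : T.X₃ ⟶ S.X₃ := cokernel.desc (φ ≫ S.f) S.g (by rw [Category.assoc, S.zero, comp_zero])
  have hr : T.g ≫ r = S.g := cokernel.π_desc _ _ _
  let V : A → Opens X := fun a => W0 a
  let sf : ∀ a : A, T.X₃.obj.obj (op (V a)) := fun a => T.g.hom.app (op (V a)) (s0 a)
  have hcov : (⊤ : Opens X) ≤ ⨆ a, V a := fun x _ => by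
    obtain ⟨y, hy, hxy⟩ := Set.mem_iUnion₂.1 (hA.ge (Set.mem_univ x))
    exact Opens.mem_iSup.2 ⟨⟨y, hy⟩, hxy⟩
  have hcompat : TopCat.Presheaf.IsCompatible T.X₃.obj V sf := by
    intro a b
    refine TopCat.Sheaf.eq_of_locally_eq' T.X₃ (fun W : {W // W ∈ B (a, b)} => W.1) _
      (fun W => homOfLE (hB (a, b) W.1 W.2).2) (fun x hx => ?_) _ _ fun W => ?_
    · obtain ⟨W, hW, hxW⟩ := hBcov (a, b) x hx
      exact Opens.mem_iSup.2 ⟨⟨W, hW⟩, hxW⟩
    obtain ⟨g, hg⟩ := hcG ⟨(a, b), W⟩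
    have h1 := hc ⟨(a, b), W⟩
    rw [← hg] at h1
    have h2 : T.g.hom.app (op W.1) (S.f.hom.app (op W.1) (φ.hom.app (op W.1) g)) = 0 :=
      ConcreteCategory.congr_hom (congrArg (fun e : G ⟶ T.X₃ => e.hom.app (op W.1)) T.zero) g
    rw [h1, map_sub, sub_eq_zero, NatTrans.naturality_apply T.g.hom, NatTrans.naturality_apply T.g.hom] at h2
    refine Eq.trans ?_ (h2.trans ?_)
    · exact ((ConcreteCategory.congr_hom (T.X₃.obj.map_comp _ _) (sf a)).symm :)
    · exact (ConcreteCategory.congr_hom (T.X₃.obj.map_comp _ _) (sf b) :)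
  obtain ⟨σ, hσ, -⟩ := TopCat.Sheaf.existsUnique_gluing' T.X₃ V ⊤ (fun a => homOfLE le_top) hcov sf hcompat
  obtain ⟨s, hs⟩ := surjective_app_of_subsingleton hT ⊤ σ
  refine ⟨s, TopCat.Sheaf.eq_of_locally_eq' S.X₃ V ⊤ (fun a => homOfLE le_top) hcov _ _ fun a => ?_⟩
  have key : ∀ (U : Opens X) (z : S.X₂.obj.obj (op U)),
      r.hom.app (op U) (T.g.hom.app (op U) z) = S.g.hom.app (op U) z := fun U z =>
    ConcreteCategory.congr_hom (congrArg (fun e : S.X₂ ⟶ S.X₃ => e.hom.app (op U)) hr) z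
  rw [← key ⊤ s, hs, ← NatTrans.naturality_apply r.hom, hσ a]
  exact (key _ _).trans (hs0 a)

end

variable {X : Scheme.{u}}

/-- Serre's criterion, with ideals of finite type. -/
theorem isAffine_of_ftIdealsAcyclic [CompactSpace X] [QuasiSeparatedSpace X]
    (h : ∀ (I : X.Modules) (i : I ⟶ Coh.structureModule X), Mono i →
      Coh.IsQCoh I → CohB1.IsFT I → Subsingleton (Coh.HH X I 1)) : IsAffine X := by
  classical
  refine isAffine_of_idealsAcyclic fun I i hi hI => ?_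
  haveI := hI
  suffices hsub : Subsingleton (EU (X := sp X) (Coh.toAb I) ⊤ 1) from
    (hEquiv (X := sp X) (Coh.toAb I) 1).injective.subsingleton
  haveI : CompactSpace (sp X) := ‹CompactSpace X›
  refine subsingleton_EU_one_of_exhausted (X := sp X) (fun U => IsAffineOpen (X := X) U)
    (fun U x hx => ?_) (fun U V hU hV => ?_) _ fun κ _ W hW c => ?_
  · obtain ⟨W, hW, hxW, hWU⟩ := exists_isAffineOpen_mem_and_subset (X := X) (U := U) hx
    exact ⟨W, hW, hxW, hWU⟩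
  · exact QuasiSeparatedSpace.inter_isCompact _ _ U.2 hU.isCompact V.2 hV.isCompact
  choose S hS hcS using fun k => SubSheafExt.exists_gen_of_section_qcqs (F := I) (hW k)
    (show Γ(I, W k) from c k)
  let G : SubSheafExt.Sub I := fun y => (Finset.univ : Finset κ).sup fun k => S k y
  have hG : SubSheafExt.GenOn G ⊤ := SubSheafExt.genOn_finset_sup Finset.univ S fun k _ => hS k
  refine ⟨Coh.toAb (SubSheafExt.toModule I G), (toAbF X).map (SubSheafExt.toModuleι I G),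
    inferInstance, ?_, fun k => ?_⟩
  · haveI := h _ (SubSheafExt.toModuleι I G ≫ i) inferInstance (SubSheafExt.isQuasicoherent_toModule hG)
      (SubSheafExt.isFiniteType_toModule hG)
    exact (hEquiv (X := sp X) (Coh.toAb (SubSheafExt.toModule I G)) 1).symm.injective.subsingleton
  · exact ⟨⟨c k, fun y hy => Finset.le_sup (f := fun k => S k y) (Finset.mem_univ k) (hcS k y hy)⟩, rfl⟩

end Groth.Agent.AffCrit
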